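import Mathlib
import Groth.Agent.Lib.Helper14.RegSmooth
import Groth.Agent.Lib.Lead.RLR1

/-!
# Regular local algebras essentially of finite type over a field with trivial residue extension
are formally smooth (helper19, for S11100)
-/

namespace Groth.Agent.Helper19.SecSmooth

open scoped TensorProduct
open IsLocalRing

universe u

theorem isGeometricallyReduced_self (F : Type u) [Field F] : Algebra.IsGeometricallyReduced F F :=
  (Algebra.isGeometricallyReduced_field_iff F F).mpr
    (isReduced_of_injective (Algebra.TensorProduct.rid F F (AlgebraicClosure F))
      (AlgEquiv.injective _))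

/-- A regular local `k`-algebra essentially of finite type whose residue field is `k` is formally
smooth over `k`. -/
theorem formallySmooth_of_regular_of_essFiniteType (k F : Type u) [Field k] [CommRing F]
    [Algebra k F] [Algebra.EssFiniteType k F] [IsRegularLocalRing F]
    (hκ : Function.Surjective (algebraMap k (ResidueField F))) : Algebra.FormallySmooth k F := by
  obtain ⟨q, hq⟩ : ∃ q : Ideal (Algebra.EssFiniteType.subalgebra k F),
      q = (maximalIdeal F).comap (algebraMap (Algebra.EssFiniteType.subalgebra k F) F) :=
    ⟨_, rfl⟩
  haveI : q.IsPrime := hq ▸ Ideal.comap_isPrime _ _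
  have hM : Algebra.EssFiniteType.submonoid k F = q.primeCompl := by
    ext x
    rw [Algebra.EssFiniteType.submonoid, Submonoid.mem_comap, IsUnit.mem_submonoid_iff,
      Ideal.mem_primeCompl_iff, hq, Ideal.mem_comap, mem_maximalIdeal, mem_nonunits_iff, not_not]
  haveI hloc : IsLocalization.AtPrime F q := by
    have := Algebra.EssFiniteType.isLocalization (R := k) (S := F)
    rw [hM] at this
    exact this
  let e : Localization.AtPrime q ≃ₐ[Algebra.EssFiniteType.subalgebra k F] F :=
    IsLocalization.algEquiv q.primeCompl _ _
  haveI : IsRegularLocalRing (Localization.AtPrime q) :=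
    IsRegularLocalRing.of_ringEquiv e.symm.toRingEquiv
  -- the residue field of `q` is `k`
  have hsurj : Function.Surjective (algebraMap k q.ResidueField) := by
    intro x
    obtain ⟨y, rfl⟩ := residue_surjective (R := Localization.AtPrime q) x
    obtain ⟨c, hc⟩ := hκ (residue F (e y))
    refine ⟨c, ?_⟩
    have h1 : e y - algebraMap k F c ∈ maximalIdeal F := by
      rw [← residue_eq_zero_iff, map_sub, sub_eq_zero, ← hc]
      rfl
    have h2 : y - algebraMap k (Localization.AtPrime q) c ∈
        maximalIdeal (Localization.AtPrime q) := by
      rw [mem_maximalIdeal, mem_nonunits_iff]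
      intro hu
      have hu' : IsUnit (e (y - algebraMap k (Localization.AtPrime q) c)) := hu.map e
      rw [map_sub] at hu'
      have h3 : e (algebraMap k (Localization.AtPrime q) c) = algebraMap k F c := by
        rw [IsScalarTower.algebraMap_apply k (Algebra.EssFiniteType.subalgebra k F)
          (Localization.AtPrime q), e.commutes]
        rfl
      rw [h3] at hu'
      exact h1 hu'
    have h4 := (residue_eq_zero_iff _).mpr h2
    rw [map_sub, sub_eq_zero] at h4
    rw [h4]
    rfl
  haveI : Algebra.IsGeometricallyReduced k q.ResidueField := by
    haveI := isGeometricallyReduced_self k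
    let e' : k ≃ₐ[k] q.ResidueField := AlgEquiv.ofBijective (Algebra.ofId k q.ResidueField)
      ⟨(algebraMap k q.ResidueField).injective, hsurj⟩
    exact Algebra.IsGeometricallyReduced.of_injective e'.symm.toAlgHom e'.symm.injective
  have hsm : Algebra.IsSmoothAt k q :=
    Groth.Agent.Helper14.RegSmooth.isSmoothAt_of_regular k (Algebra.EssFiniteType.subalgebra k F) q
  haveI : Algebra.FormallySmooth k (Localization.AtPrime q) := hsm
  exact Algebra.FormallySmooth.of_equiv (e.restrictScalars k)

end Groth.Agent.Helper19.SecSmooth
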