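import Mathlib
import Groth.Agent.Lib.Helper19.SecSmooth.Fibre

/-!
# A regular local algebra, flat and essentially of finite presentation over a discrete valuation
ring or a field, which admits a retraction, is formally smooth (helper19, for S11100)
-/

namespace Groth.Agent.Helper19.SecSmooth

open scoped TensorProduct
open IsLocalRing

universe u

section

variable {R S : Type u} [CommRing R] [CommRing S] [Algebra R S] [IsLocalRing R] [IsLocalRing S]

/-- a retraction of a local algebra maps the maximal ideal into the maximal ideal -/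
theorem retraction_mem_maximalIdeal (σ : S →ₐ[R] R) {x : S} (hx : x ∈ maximalIdeal S) :
    σ x ∈ maximalIdeal R := by
  rw [mem_maximalIdeal, mem_nonunits_iff]
  intro hu
  have hy : IsUnit (algebraMap R S (σ x)) := hu.map _
  have hyx : IsUnit (algebraMap R S (σ x) - x) := by
    have h1 : IsUnit ((algebraMap R S (σ x) - x) + x) := by simpa using hy
    rcases IsLocalRing.isUnit_or_isUnit_of_isUnit_add h1 with h | h
    · exact h
    · exact absurd h ((mem_nonunits_iff).mp hx)
  have h0 : σ (algebraMap R S (σ x) - x) = 0 := by
    rw [map_sub, AlgHom.commutes]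
    simp
  have h2 := hyx.map σ
  rw [h0] at h2
  exact not_isUnit_zero h2

/-- the uniformiser is not in the square of the maximal ideal -/
theorem algebraMap_notMem_sq [IsDomain R] (σ : S →ₐ[R] R) (π : R)
    (hπ : maximalIdeal R = Ideal.span {π}) (hπ0 : π ≠ 0) :
    algebraMap R S π ∉ maximalIdeal S ^ 2 := by
  intro h
  have h1 : σ.toRingHom (algebraMap R S π) ∈ (maximalIdeal S ^ 2).map σ.toRingHom :=
    Ideal.mem_map_of_mem _ h
  rw [Ideal.map_pow] at h1
  have h2 : (maximalIdeal S).map σ.toRingHom ≤ maximalIdeal R := by
    rw [Ideal.map_le_iff_le_comap]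
    intro x hx
    exact retraction_mem_maximalIdeal σ hx
  have h3 : σ.toRingHom (algebraMap R S π) ∈ maximalIdeal R ^ 2 := Ideal.pow_right_mono h2 2 h1
  have h4 : σ.toRingHom (algebraMap R S π) = π := by
    change σ (algebraMap R S π) = π
    rw [AlgHom.commutes]
    rfl
  rw [h4, hπ, Ideal.span_singleton_pow, Ideal.mem_span_singleton'] at h3
  obtain ⟨c, hc⟩ := h3
  have hcm : c * π ∈ maximalIdeal R := by
    rw [hπ]
    exact Ideal.mul_mem_left _ _ (Ideal.mem_span_singleton_self π)
  have hunit : IsUnit (1 - c * π) := by
    have h5 : IsUnit ((1 - c * π) + c * π) := by simp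
    rcases IsLocalRing.isUnit_or_isUnit_of_isUnit_add h5 with h | h
    · exact h
    · exact absurd h ((mem_nonunits_iff).mp hcm)
  have h6 : π * (1 - c * π) = 0 := by linear_combination -hc
  rcases mul_eq_zero.mp h6 with h | h
  · exact hπ0 h
  · exact hunit.ne_zero h

end

theorem formallySmooth_of_regular_of_section (R S P : Type u) [CommRing R] [IsDomain R]
    [IsLocalRing R] [IsPrincipalIdealRing R]
    [CommRing S] [Algebra R S] [IsRegularLocalRing S] [IsLocalHom (algebraMap R S)]
    [Module.Flat R S]
    [CommRing P] [Algebra R P] [Algebra P S] [IsScalarTower R P S] (M : Submonoid P)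
    [IsLocalization M S] [Algebra.FinitePresentation R P]
    (σ : S →ₐ[R] R) : Algebra.FormallySmooth R S := by
  haveI : Algebra.EssFiniteType R S := by
    haveI : Algebra.EssFiniteType P S := Algebra.EssFiniteType.of_isLocalization S M
    exact Algebra.EssFiniteType.comp R P S
  -- regularity of the fibre
  have hreg : IsRegularLocalRing (ResidueField R ⊗[R] S) := by
    let eSp : ResidueField R ⊗[R] S ≃+* S ⧸ (maximalIdeal R).map (algebraMap R S) :=
      (Algebra.TensorProduct.comm R (ResidueField R) S).toRingEquiv.trans
        (Algebra.TensorProduct.quotIdealMapEquivTensorQuot S (maximalIdeal R)).symm.toRingEquiv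
    suffices h : IsRegularLocalRing (S ⧸ (maximalIdeal R).map (algebraMap R S)) from
      IsRegularLocalRing.of_ringEquiv eSp.symm
    obtain ⟨π, hπ⟩ : ∃ π, maximalIdeal R = Ideal.span {π} :=
      (IsPrincipalIdealRing.principal (maximalIdeal R)).principal
    rw [hπ, Ideal.map_span, Set.image_singleton]
    by_cases hπ0 : π = 0
    · have hbot : Ideal.span {algebraMap R S π} = (⊥ : Ideal S) := by
        rw [hπ0, map_zero]
        exact Ideal.span_singleton_eq_bot.mpr rfl
      rw [hbot]
      exact IsRegularLocalRing.of_ringEquiv (RingEquiv.quotientBot S).symm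
    · have hx : algebraMap R S π ∈ maximalIdeal S := by
        have hπm : π ∈ maximalIdeal R := hπ ▸ Ideal.mem_span_singleton_self π
        rw [mem_maximalIdeal, mem_nonunits_iff] at hπm ⊢
        exact fun h => hπm (isUnit_of_map_unit (algebraMap R S) π h)
      have hx2 := algebraMap_notMem_sq σ π hπ hπ0
      obtain ⟨n, y, hn, hy⟩ := Groth.Agent.Lead.RLR.exists_generators_of_notMem_sq hx hx2
      haveI : IsLocalRing (S ⧸ Ideal.span {algebraMap R S π}) :=
        Groth.Agent.Lead.RLR.isLocalRing_quotient
          (Groth.Agent.Lead.RLR.span_singleton_ne_top hx)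
      exact (Groth.Agent.Lead.RLR.isRegularLocalRing_quotient_aux _ y hy hn).1
  haveI := hreg
  -- residue field of the fibre
  have hκ : Function.Surjective (algebraMap (ResidueField R)
      (ResidueField (ResidueField R ⊗[R] S))) := by
    let χ : ResidueField R ⊗[R] S →ₐ[ResidueField R] ResidueField R :=
      Algebra.TensorProduct.lift (AlgHom.id (ResidueField R) (ResidueField R))
        ((IsScalarTower.toAlgHom R R (ResidueField R)).comp σ) (fun _ _ => Commute.all _ _)
    have hχs : Function.Surjective χ := fun c => ⟨algebraMap _ _ c, χ.commutes c⟩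
    have hker : RingHom.ker χ.toRingHom = maximalIdeal (ResidueField R ⊗[R] S) := by
      haveI := RingHom.ker_isMaximal_of_surjective χ.toRingHom hχs
      exact IsLocalRing.eq_maximalIdeal inferInstance
    intro x
    obtain ⟨f, rfl⟩ := residue_surjective (R := ResidueField R ⊗[R] S) x
    refine ⟨χ f, ?_⟩
    have h1 : f - algebraMap (ResidueField R) (ResidueField R ⊗[R] S) (χ f) ∈
        maximalIdeal (ResidueField R ⊗[R] S) := by
      rw [← hker, RingHom.mem_ker]
      change χ (f - algebraMap (ResidueField R) (ResidueField R ⊗[R] S) (χ f)) = 0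
      rw [map_sub, χ.commutes]
      simp
    have h2 := (residue_eq_zero_iff _).mpr h1
    rw [map_sub, sub_eq_zero] at h2
    rw [h2]
    rfl
  haveI : Algebra.FormallySmooth (ResidueField R) (ResidueField R ⊗[R] S) :=
    formallySmooth_of_regular_of_essFiniteType _ _ hκ
  exact Algebra.FormallySmooth.of_formallySmooth_residueField_tensor (R := R) (S := S) (P := P) M

end Groth.Agent.Helper19.SecSmooth
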