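import Mathlib
import Groth.Agent.Lib.Helper19.SecSmooth.Local

/-!
# Sections of regular flat finitely presented algebras over Dedekind domains pass through the
smooth locus: algebraic form (helper19, for S11100)
-/

namespace Groth.Agent.Helper19.SecSmooth

open scoped TensorProduct
open IsLocalRing Algebra

universe u

theorem isSmoothAt_of_regular_of_section (R₀ C : Type u) [CommRing R₀]
    [CommRing C] [Algebra R₀ C] [Algebra.FinitePresentation R₀ C] [Module.Flat R₀ C]
    (p : Ideal R₀) [p.IsPrime] [IsDomain (Localization.AtPrime p)]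
    [IsPrincipalIdealRing (Localization.AtPrime p)] (q : Ideal C) [q.IsPrime] [q.LiesOver p]
    [IsRegularLocalRing (Localization.AtPrime q)]
    (σ : Localization.AtPrime q →+* Localization.AtPrime p)
    (hσ : σ.comp (Localization.localRingHom p q (algebraMap R₀ C) Ideal.LiesOver.over) =
      RingHom.id _) :
    Algebra.IsSmoothAt R₀ q := by
  let Rp := Localization.AtPrime p
  let Sp := Localization (algebraMapSubmonoid C p.primeCompl)
  let Sq := Localization.AtPrime q
  let := Localization.AtPrime.algebraOfLiesOver p q
  let f : Sp →ₐ[C] Sq := IsLocalization.liftAlgHom (M := algebraMapSubmonoid C p.primeCompl)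
        (f := Algebra.ofId _ _) (by
      rintro ⟨_, x, hx, rfl⟩
      simpa using! IsLocalization.map_units (M := q.primeCompl) Sq ⟨algebraMap _ _ x,
        by simp_all [q.over_def p]⟩)
  algebraize [f.toRingHom]
  have : IsScalarTower R₀ Sp Sq := .to₁₃₄ _ C _ _
  have : IsScalarTower Rp Sp Sq := .of_algebraMap_eq' <| by
    apply IsLocalization.ringHom_ext p.primeCompl
    simp only [RingHom.comp_assoc, ← IsScalarTower.algebraMap_eq]
  have : IsLocalization (algebraMapSubmonoid Sp q.primeCompl) Sq :=
    .isLocalization_of_submonoid_le _ _ (algebraMapSubmonoid C p.primeCompl) _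
    (by rintro _ ⟨x, hx, rfl⟩; simp_all [q.over_def p])
  have : FinitePresentation Rp Sp := by
    have : Algebra.IsPushout R₀ Rp C Sp :=
      .symm <| Algebra.isPushout_of_isLocalization p.primeCompl _ _ _
    exact .equiv (Algebra.IsPushout.equiv R₀ Rp C Sp)
  let σ' : Sq →ₐ[Rp] Rp :=
    { σ with
      commutes' := fun r => by
        have h := congr($hσ r)
        simp only [RingHom.comp_apply, RingHom.id_apply] at h
        exact h }
  have hfs : Algebra.FormallySmooth Rp Sq :=
    formallySmooth_of_regular_of_section Rp Sq Sp (algebraMapSubmonoid Sp q.primeCompl) σ'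
  exact .comp R₀ Rp Sq

end Groth.Agent.Helper19.SecSmooth
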