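import Mathlib
import Groth.Agent.Lib.Helper19.SecSmooth.Global

/-!
# Sections of regular flat lfp schemes over Dedekind domains pass through the smooth locus
(helper19, for S11100)
-/

namespace Groth.Agent.Helper19.SecSmooth

open CategoryTheory AlgebraicGeometry

universe u

theorem section_mem_smoothLocus {R : Type u} [CommRing R] [IsDedekindDomain R]
    {X : Scheme.{u}} (p : X ⟶ Spec (CommRingCat.of R)) [Flat p] [LocallyOfFinitePresentation p]
    (hreg : ∀ x : X, IsRegularLocalRing (X.presheaf.stalk x))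
    (s : Spec (CommRingCat.of R) ⟶ X) (hs : s ≫ p = 𝟙 _) (t : Spec (CommRingCat.of R)) :
    s.base t ∈ p.smoothLocus := by
  obtain ⟨_, ⟨V, hV, rfl⟩, hxV, -⟩ :=
    X.isBasis_affineOpens.exists_subset_of_mem_open (Set.mem_univ (s.base t)) isOpen_univ
  have hU : IsAffineOpen (⊤ : (Spec (CommRingCat.of R)).Opens) := isAffineOpen_top _
  have hVU : V ≤ p ⁻¹ᵁ ⊤ := le_top
  rw [Scheme.Hom.mem_smoothLocus, formallySmooth_stalkMap_iff ⊤ hU V hV hVU hxV]
  have hfp := p.finitePresentation_appLE hU hV hVU
  have hflat := p.flat_appLE hU hV hVU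
  algebraize [(p.appLE ⊤ V hVU).hom]
  change Algebra.IsSmoothAt Γ(Spec (CommRingCat.of R), ⊤)
    (hV.primeIdealOf ⟨s.base t, hxV⟩).asIdeal
  let P := (hU.primeIdealOf ⟨p.base (s.base t), hVU hxV⟩).asIdeal
  let q := (hV.primeIdealOf ⟨s.base t, hxV⟩).asIdeal
  haveI : q.LiesOver P :=
    ⟨congr($(IsAffineOpen.comap_primeIdealOf_appLE ⊤ hU V hV hVU hxV).1).symm⟩
  -- regularity
  haveI : IsRegularLocalRing (Localization.AtPrime q) := by
    letI := TopCat.Presheaf.algebra_section_stalk X.presheaf (⟨s.base t, hxV⟩ : V)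
    haveI := hV.isLocalization_stalk ⟨s.base t, hxV⟩
    haveI := hreg (s.base t)
    exact IsRegularLocalRing.of_ringEquiv
      (IsLocalization.algEquiv q.primeCompl (X.presheaf.stalk (s.base t))
        (Localization.AtPrime q)).toRingEquiv
  -- the base local ring
  have hbase : IsDomain (Localization.AtPrime P) ∧ IsPrincipalIdealRing (Localization.AtPrime P) := by
    letI := (Spec (CommRingCat.of R)).presheaf.algebra_section_stalk
      (⟨p.base (s.base t), hVU hxV⟩ : (⊤ : (Spec (CommRingCat.of R)).Opens))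
    haveI := hU.isLocalization_stalk ⟨p.base (s.base t), hVU hxV⟩
    let e₁ : Localization.AtPrime P ≃+*
        (Spec (CommRingCat.of R)).presheaf.stalk (p.base (s.base t)) :=
      (IsLocalization.algEquiv P.primeCompl _ _).toRingEquiv
    let y : PrimeSpectrum R := p.base (s.base t)
    let e₂ : Localization.AtPrime y.asIdeal ≃+*
        (Spec (CommRingCat.of R)).presheaf.stalk (p.base (s.base t)) :=
      (StructureSheaf.stalkIso R y).toRingEquiv
    let e := e₁.trans e₂.symm
    exact ⟨e.toMulEquiv.isDomain _, IsPrincipalIdealRing.of_surjective e.symm.toRingHom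
      e.symm.surjective⟩
  haveI := hbase.1
  haveI := hbase.2
  -- the section
  let α := IsAffineOpen.arrowStalkMapIso p ⊤ hU V hV hVU hxV
  haveI : IsIso (s ≫ p) := by rw [hs]; infer_instance
  haveI : IsOpenImmersion (s ≫ p) := inferInstance
  have hiso1 : IsIso ((s ≫ p).stalkMap t) := inferInstance
  have hcomp : (s ≫ p).stalkMap t = p.stalkMap (s.base t) ≫ s.stalkMap t :=
    Scheme.Hom.stalkMap_comp s p t
  haveI : IsIso (p.stalkMap (s.base t) ≫ s.stalkMap t) := by rw [← hcomp]; exact hiso1
  let σcat : CommRingCat.of (Localization.AtPrime q) ⟶ CommRingCat.of (Localization.AtPrime P) :=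
    α.inv.right ≫ s.stalkMap t ≫ inv (p.stalkMap (s.base t) ≫ s.stalkMap t) ≫ α.hom.left
  have key : CommRingCat.ofHom (Localization.localRingHom P q (p.appLE ⊤ V hVU).hom
      congr($(IsAffineOpen.comap_primeIdealOf_appLE ⊤ hU V hV hVU hxV).1).symm) ≫ σcat = 𝟙 _ := by
    have w := α.inv.w
    simp only [Arrow.mk_hom, Arrow.mk_left, Arrow.mk_right] at w
    have h1 : α.inv.left ≫ α.hom.left = 𝟙 _ := by
      rw [← Arrow.comp_left, α.inv_hom_id]
      rfl
    calc _ = (α.inv.left ≫ p.stalkMap (s.base t)) ≫ s.stalkMap t ≫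
          inv (p.stalkMap (s.base t) ≫ s.stalkMap t) ≫ α.hom.left := by
            rw [w]
            simp only [σcat, Category.assoc]
      _ = α.inv.left ≫ ((p.stalkMap (s.base t) ≫ s.stalkMap t) ≫
          inv (p.stalkMap (s.base t) ≫ s.stalkMap t)) ≫ α.hom.left := by
            simp only [Category.assoc]
      _ = 𝟙 _ := by
            rw [IsIso.hom_inv_id, Category.id_comp, h1]
  refine isSmoothAt_of_regular_of_section Γ(Spec (CommRingCat.of R), ⊤) Γ(X, V) P q σcat.hom ?_
  have := congr(($key).hom)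
  exact this

end Groth.Agent.Helper19.SecSmooth
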